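import Cfsg.Agent.H675.RC.Frame
import Cfsg.Agent.H989.OkuboRoot

/-!
# S3510, triality of `PΩ₈⁺(q)`: exact linear lifts are in `Ω` (helper675)

* `O_cosets` : `O Q` is the union of the cosets of `E Q` represented by products of two reflections;
* `mem_E_of_tri` : an isometry with a triple whose third member has multiplier one is in `E`;
* `mem_E_of_ex`, `exists_autD` : linear exact automorphisms of `dia τ` are in `AutD τ`;
* `oct_mem_E` : octonion automorphisms; `Fr.mem` : the linear members of the frame are in `N`.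
-/

set_option autoImplicit false

namespace Cfsg.Agent.H675.RC

open Module QuadraticMap Cfsg.Agent.LieClassical.OrthCore Cfsg.Agent.LieClassical.OrthTrans
  Cfsg.Agent.LieClassical.OrthSimple Cfsg.Agent.ClassicalGeometry.OrthAut1
  Cfsg.Agent.ClassicalGeometry.OrthSemi Cfsg.Agent.H198.Classes
  Cfsg.Agent.LieClassical.QuadForms Cfsg.Agent.H198.ClassesPlus
  Cfsg.Agent.ClassicalGeometry.TrialityOct Cfsg.Agent.ClassicalGeometry.Triality
  Cfsg.Agent.ClassicalGeometry.TrialitySpaces Cfsg.Agent.H198.TriBase Cfsg.Agent.H198.TriAut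
  Cfsg.Agent.H198.TriDia Cfsg.Agent.H198.TriTC Cfsg.Agent.H566.RC Cfsg.Agent.H106.RC Cfsg.Agent.H93.RC

universe u

/-! ### Cosets of `E` in `O` -/

section cosets

variable {F V : Type*} [Field F] [AddCommGroup V] [Module F V] {Q : QuadraticForm F V}

theorem gen_mul1 {G : Type*} [Group G] {r s x y : G} (h : Commute r s) (i j k l : ℕ) :
    r ^ (k + i) * s ^ (l + j) * (x * y) =
      (r ^ k * s ^ l) * (r ^ i * s ^ j * x) * (r ^ k * s ^ l)⁻¹ * (r ^ k * s ^ l * y) := by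
  have h1 : s ^ l * r ^ i = r ^ i * s ^ l := ((h.pow_pow i l).eq).symm
  calc r ^ (k + i) * s ^ (l + j) * (x * y) = r ^ k * (r ^ i * s ^ l) * s ^ j * x * y := by
        rw [pow_add, pow_add]; group
    _ = r ^ k * (s ^ l * r ^ i) * s ^ j * x * y := by rw [h1]
    _ = _ := by group

theorem gen_inv1 {G : Type*} [Group G] {y x : G} (h : y * y = 1) : y * x⁻¹ = y * (y * x)⁻¹ * y⁻¹ := by
  have h1 : y⁻¹ = y := inv_eq_of_mul_eq_one_left h
  rw [mul_inv_rev, h1]
  calc y * x⁻¹ = y * x⁻¹ * (y * y) := by rw [h, mul_one]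
    _ = _ := by group

theorem gen_sq1 {G : Type*} [Group G] {r s : G} (hr : r * r = 1) (hs : s * s = 1) (h : Commute r s) (i j : ℕ) :
    (r ^ i * s ^ j) * (r ^ i * s ^ j) = 1 := by
  have h1 : Commute (r ^ i) (s ^ j) := h.pow_pow i j
  calc (r ^ i * s ^ j) * (r ^ i * s ^ j) = r ^ i * (s ^ j * r ^ i) * s ^ j := by group
    _ = r ^ i * (r ^ i * s ^ j) * s ^ j := by rw [h1.eq]
    _ = (r ^ i * r ^ i) * (s ^ j * s ^ j) := by group
    _ = 1 := by rw [← (Commute.refl r).mul_pow, ← (Commute.refl s).mul_pow, hr, hs, one_pow, one_pow, one_mul]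

/-- the cosets of `E` in `O` -/
theorem O_cosets [FiniteDimensional F V] (hG : Good Q) {a b : V} (ha : Q a ≠ 0) (hb : Q b ≠ 0)
    (hab : polar Q a b = 0) (hsq : ∀ c : F, c ≠ 0 → IsSquare (Q a * c⁻¹) ∨ IsSquare (Q b * c⁻¹))
    {g : V ≃ₗ[F] V} (hg : g ∈ O Q) : ∃ i j : ℕ, refl Q a ha ^ i * refl Q b hb ^ j * g ∈ E Q := by
  set r := refl Q a ha with hr
  set s := refl Q b hb with hs
  have hrs : Commute r s := refl_comm ha hb hab
  have hrO : r ∈ O Q := refl_mem_O ha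
  have hsO : s ∈ O Q := refl_mem_O hb
  have hrr : r * r = 1 := refl_mul_self ha
  have hss : s * s = 1 := refl_mul_self hb
  have hyO : ∀ i j : ℕ, r ^ i * s ^ j ∈ O Q := fun i j => mul_mem (pow_mem hrO i) (pow_mem hsO j)
  have key : ∀ {a v : V} (ha : Q a ≠ 0) (hv : Q v ≠ 0), IsSquare (Q a * (Q v)⁻¹) →
      refl Q a ha * refl Q v hv ∈ E Q := by
    intro a v ha hv hsq
    obtain ⟨c, hc⟩ := hsq
    have hc0 : c ≠ 0 := by
      rintro rfl
      rw [mul_zero] at hc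
      exact (mul_ne_zero ha (inv_ne_zero hv)) hc
    have hcv : Q (c • v) = Q a := by
      rw [QuadraticMap.map_smul, ← hc, smul_eq_mul, mul_assoc, inv_mul_cancel₀ hv, mul_one]
    have hcv0 : Q (c • v) ≠ 0 := by rw [hcv]; exact ha
    rw [← refl_smul hv hc0 hcv0]
    exact hG.refl_mul_refl_mem hcv0 ha hcv
  rw [O_eq_closure hG.nondeg] at hg
  induction hg using Subgroup.closure_induction with
  | mem x hx =>
    rcases hx with ⟨v, hv, rfl⟩ | ⟨u, w, hu, hw, rfl⟩
    · rcases hsq (Q v) hv with h | h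
      · refine ⟨1, 0, ?_⟩
        rw [pow_one, pow_zero, mul_one]
        exact key ha hv h
      · refine ⟨0, 1, ?_⟩
        rw [pow_one, pow_zero, one_mul]
        exact key hb hv h
    · refine ⟨0, 0, ?_⟩
      rw [pow_zero, pow_zero, one_mul, one_mul]
      exact siegel_mem_E hu hw
  | one => exact ⟨0, 0, by rw [pow_zero, pow_zero, one_mul, one_mul]; exact one_mem _⟩
  | mul x y _ _ hx hy =>
    obtain ⟨i, j, hx⟩ := hx
    obtain ⟨k, l, hy⟩ := hy
    refine ⟨k + i, l + j, ?_⟩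
    rw [gen_mul1 hrs]
    exact mul_mem (conj_mem_E (hyO k l) hx) hy
  | inv x _ hx =>
    obtain ⟨i, j, hx⟩ := hx
    refine ⟨i, j, ?_⟩
    rw [gen_inv1 (gen_sq1 hrr hss hrs i j)]
    exact conj_mem_E (hyO i j) (inv_mem hx)

end cosets

/-! ### Multipliers of triples -/

variable {F : Type u} [Field F]

theorem isSS_mul_lin {M N : G8 F} {c d : F} (hM : IsSS (plusForm 4 F) (RingEquiv.refl F) c M.1)
    (hN : IsSS (plusForm 4 F) (RingEquiv.refl F) d N.1) :
    IsSS (plusForm 4 F) (RingEquiv.refl F) (c * d) (M * N).1 := hM.mul hN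

theorem isSS_scal_lin (c : Fˣ) :
    IsSS (plusForm 4 F) (RingEquiv.refl F) ((c : F) * c) (scal (plusForm 4 F) c).1 :=
  ⟨mul_ne_zero c.ne_zero c.ne_zero, fun u v => smul_add (c : F) u v, fun a v => smul_comm (c : F) a v, fun v =>
    QuadraticMap.map_smul _ (c : F) v⟩

theorem isSS_kap : IsSS (plusForm 4 F) (RingEquiv.refl F) 1 (kapG F).1 := H198.TriInn.isSS_kapG

/-- the triple of a product of two reflections -/
theorem tri_refl_mul {a b : V8 F} (ha : plusForm 4 F a ≠ 0) (hb : plusForm 4 F b ≠ 0) :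
    ∃ (M₁ M₂ : G8 F) (d : F), d ≠ 0 ∧ TriS (gamO _ ⟨refl (plusForm 4 F) a ha, refl_mem_O ha⟩ *
      gamO _ ⟨refl (plusForm 4 F) b hb, refl_mem_O hb⟩) M₁ M₂ ∧
      IsSS (plusForm 4 F) (RingEquiv.refl F) (plusForm 4 F a * plusForm 4 F b * (d * d)) M₂.1 := by
  rw [gamO_refl, gamO_refl]
  set c := Units.mk0 (-(plusForm 4 F a)⁻¹) (neg_ne_zero.2 (inv_ne_zero ha))
  set d := Units.mk0 (-(plusForm 4 F b)⁻¹) (neg_ne_zero.2 (inv_ne_zero hb))
  have e : scal _ c * (bG a ha * kapG F) * (scal _ d * (bG b hb * kapG F)) =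
      scal _ c * bG a ha * (kapG F * (scal _ d * bG b hb) * kapG F) := by group
  rw [e]
  have h1 := ((tri_scal c).mul (tri_bG a ha)).mul ((tri_scal d).mul (tri_bG b hb)).kap
  refine ⟨_, _, (d : F), d.ne_zero, h1, ?_⟩
  have h2 := isSS_mul_lin (isSS_mul_lin (M := (1 : G8 F)) (c := 1) ⟨one_ne_zero, fun _ _ => rfl, fun _ _ => rfl,
    fun _ => by rw [one_mul]; rfl⟩ (N := rG a ha) (isSS_rP a ha))
    (isSS_mul_lin (isSS_mul_lin isSS_kap (isSS_mul_lin (isSS_scal_lin d) (N := lG b hb) (isSS_lP b hb)))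
      isSS_kap)
  have h3 : 1 * plusForm 4 F a * (1 * ((d : F) * d * plusForm 4 F b) * 1) =
      plusForm 4 F a * plusForm 4 F b * ((d : F) * d) := by ring
  rw [h3] at h2
  exact h2

/-- the multipliers of the third member are unique modulo squares -/
theorem mult_class (hG : Good (plusForm 4 F)) {M M₁ M₂ N₁ N₂ : G8 F} (h : TriS M M₁ M₂) (h' : TriS M N₁ N₂)
    {m n : F} (hm : IsSS (plusForm 4 F) (RingEquiv.refl F) m M₂.1)
    (hn : IsSS (plusForm 4 F) (RingEquiv.refl F) n N₂.1) : ∃ c : F, c ≠ 0 ∧ m = n * (c * c) := by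
  have h1 := (rho_inv_conj hG h).symm.trans (rho_inv_conj hG h')
  obtain ⟨c, hc⟩ := smul_of_Psi_eq hG h1
  refine ⟨c, c.ne_zero, ?_⟩
  have h2 : oconj (M₂.1 (oconj (one8 F))) = oconj (N₂.1 (oconj ((c : F) • one8 F))) := hc (one8 F)
  have h3 := congrArg (plusForm 4 F) h2
  rw [norm_oconj, norm_oconj, hm.form, hn.form, norm_oconj, norm_oconj, QuadraticMap.map_smul, norm_one8] at h3
  simpa using h3

/-! ### Membership in `E` -/

theorem exists_b (n : F) : ∃ b : V8 F, plusForm 4 F b = n ∧ polar (plusForm 4 F) (one8 F) b = 0 := by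
  refine ⟨Sum.elim ![0, 1, 0, 0] ![0, n, 0, 0], ?_, ?_⟩
  · rw [norm8]; simp
  · rw [polar8]; simp [one8]

theorem square_or [Finite F] {n c : F} (hn : ¬ IsSquare n) :
    IsSquare (1 * c⁻¹) ∨ IsSquare (n * c⁻¹) := by
  classical
  have := Fintype.ofFinite F
  rw [one_mul]
  by_contra hno
  push Not at hno
  have hn0 : n ≠ 0 := by
    rintro rfl
    exact hn ⟨0, by simp⟩
  have h1 := quadraticChar_neg_one_iff_not_isSquare.2 hn
  have h3 := quadraticChar_neg_one_iff_not_isSquare.2 hno.1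
  have h4 := quadraticChar_neg_one_iff_not_isSquare.2 hno.2
  rw [map_mul, h1, h3] at h4
  exact absurd h4 (by decide)

/-- **an isometry with a triple whose third member has multiplier one is in `E`** -/
theorem mem_E_of_tri [Finite F] (hG : Good (plusForm 4 F)) {g : V8 F ≃ₗ[F] V8 F} (hg : g ∈ O (plusForm 4 F))
    {M₁ M₂ : G8 F} (hT : TriS (gamO _ ⟨g, hg⟩) M₁ M₂)
    (h1 : IsSS (plusForm 4 F) (RingEquiv.refl F) 1 M₂.1) : g ∈ E (plusForm 4 F) := by
  have hkp : kp F (gamO _ ⟨g, hg⟩) = 1 := (mem_T1_iff hG).1 ⟨_, _, hT⟩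
  by_cases h2 : (2 : F) = 0
  · exact H989.OkuboRoot.mem_E_of_kp h2 hG hg hkp
  have h2' : ringChar F ≠ 2 := by
    intro h
    apply h2
    have := ringChar.charP F
    rw [h] at this
    exact CharP.cast_eq_zero F 2
  obtain ⟨n, hn⟩ := FiniteField.exists_nonsquare h2'
  have hn0 : n ≠ 0 := by
    rintro rfl
    exact hn ⟨0, by simp⟩
  obtain ⟨b, hb, hab⟩ := exists_b n
  have ha : plusForm 4 F (one8 F) ≠ 0 := by rw [norm_one8]; exact one_ne_zero
  have hb0 : plusForm 4 F b ≠ 0 := by rw [hb]; exact hn0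
  obtain ⟨i, j, he⟩ := O_cosets hG ha hb0 hab (by
    intro c hc
    rw [hb, norm_one8]
    exact square_or hn) hg
  set r := refl (plusForm 4 F) (one8 F) ha with hr
  set s := refl (plusForm 4 F) b hb0 with hs
  have hrO : r ∈ O (plusForm 4 F) := refl_mem_O ha
  have hsO : s ∈ O (plusForm 4 F) := refl_mem_O hb0
  have hrr : r * r = 1 := refl_mul_self ha
  have hss : s * s = 1 := refl_mul_self hb0
  -- parity
  have hpar : Even (i + j) := by
    have h3 : kp F (gamO _ ⟨r ^ i * s ^ j * g, E_le_O he⟩) = 1 := kappa_of_E hG _ he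
    have h4 : (⟨r ^ i * s ^ j * g, E_le_O he⟩ : O (plusForm 4 F)) = ⟨r, hrO⟩ ^ i * ⟨s, hsO⟩ ^ j * ⟨g, hg⟩ := rfl
    rw [h4, map_mul, map_mul, map_mul, map_mul, map_pow, map_pow, map_pow, map_pow, kp_refl, kp_refl, hkp, mul_one,
      ← pow_add] at h3
    by_contra hne
    rw [Nat.not_even_iff_odd] at hne
    rw [hne.neg_one_pow] at h3
    exact absurd h3 (by decide)
  have hev : ∀ {x : V8 F ≃ₗ[F] V8 F} {i : ℕ}, x * x = 1 → Even i → x ^ i = 1 := by
    rintro x i hx ⟨k, rfl⟩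
    rw [pow_add, ← (Commute.refl x).mul_pow, hx, one_pow]
  rcases Nat.even_or_odd i with hi | hi
  · have hj : Even j := (Nat.even_add.1 hpar).1 hi
    rw [hev hrr hi, hev hss hj, one_mul, one_mul] at he
    exact he
  · exfalso
    have hj : Odd j := by
      rw [← Nat.not_even_iff_odd] at hi ⊢
      exact fun h => hi ((Nat.even_add.1 hpar).2 h)
    have hod : ∀ {x : V8 F ≃ₗ[F] V8 F} {i : ℕ}, x * x = 1 → Odd i → x ^ i = x := by
      rintro x i hx ⟨k, rfl⟩
      rw [pow_succ, pow_mul, pow_two, hx, one_pow, one_mul]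
    rw [hod hrr hi, hod hss hj] at he
    obtain ⟨e₁, e₂, hT'⟩ := exists_triple hG he
    have h5 := triS_of_triE hT'
    obtain ⟨A₁, A₂, d, hd, h6, h7⟩ := tri_refl_mul ha hb0
    have h8 : gamO (plusForm 4 F) ⟨r * s * g, E_le_O hT'.1.1⟩ =
        gamO _ ⟨r, hrO⟩ * gamO _ ⟨s, hsO⟩ * gamO _ ⟨g, hg⟩ := rfl
    rw [h8] at h5
    obtain ⟨c, hc, h9⟩ := mult_class hG h5 (h6.mul hT) (m := 1) (n := _)
      ⟨one_ne_zero, fun u v => map_add e₂ u v, fun a v => map_smul e₂ a v, fun v => by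
        rw [one_mul]
        exact E_le_O hT'.1.2.2 v⟩ (isSS_mul_lin h7 h1)
    rw [norm_one8, hb, one_mul, mul_one] at h9
    apply hn
    refine ⟨(d * c)⁻¹, ?_⟩
    field_simp
    linear_combination -h9

/-! ### Linear exact automorphisms -/

theorem isLin_iff {M : G8 F} : H198.TriDia.IsLin M ↔ ∀ (a : F) (v : V8 F), M.1 (a • v) = a • M.1 v := by
  constructor
  · rintro ⟨c, hc⟩
    exact hc.smul
  · intro h
    obtain ⟨σ, c, hs⟩ := M.2
    have hσ : σ = RingEquiv.refl F := by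
      ext a
      have h1 := hs.smul a (M⁻¹.1 (one8 F))
      rw [h] at h1
      have e : M.1 (M⁻¹.1 (one8 F)) = one8 F := M.1.apply_symm_apply _
      rw [e] at h1
      have h3 : (a - σ a) • one8 F = 0 := by rw [sub_smul, h1, sub_self]
      rcases smul_eq_zero.1 h3 with h4 | h4
      · exact (sub_eq_zero.1 h4).symm
      · exfalso
        have h5 := norm_one8 (F := F)
        rw [h4, QuadraticMap.map_zero] at h5
        exact zero_ne_one h5
    subst hσ
    exact ⟨c, hs⟩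

/-- **a linear exact automorphism of `dia τ` is in `AutD τ`** -/
theorem exists_autD [Finite F] (hG : Good (plusForm 4 F)) {τ M : G8 F} (hτ : TriS τ τ τ) (ho : τ ^ 3 = 1)
    (hM : Ex τ M) (hl : H198.TriDia.IsLin M) :
    ∃ g : ↥(E (plusForm 4 F)), (g : V8 F ≃ₗ[F] V8 F) ∈ AutD τ ∧ tg (plusForm 4 F) g = M := by
  obtain ⟨c, hc⟩ := hl
  obtain rfl := hM.mult hτ ho hc
  obtain ⟨⟨g, hg⟩, rfl⟩ := exists_gamO hc
  obtain ⟨ν, k, ht⟩ := τ.2
  obtain rfl := aut_mult hτ ht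
  have hti : IsSS (plusForm 4 F) ν.symm (ν.symm 1⁻¹) τ⁻¹.1 := ht.inv
  have h1 := tri_of_aut hM
  have h2 : IsSS (plusForm 4 F) (RingEquiv.refl F) 1 (τ * kapG F * gamO _ ⟨g, hg⟩ * kapG F * τ⁻¹).1 := by
    have h3 := (((ht.mul isSS_kap).mul hc).mul isSS_kap).mul hti
    have e1 : ν.symm.trans ((RingEquiv.refl F).trans ((RingEquiv.refl F).trans ((RingEquiv.refl F).trans ν))) =
        RingEquiv.refl F := by
      ext x
      simp
    rw [e1] at h3
    simpa using h3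
  have hE := mem_E_of_tri hG hg h1 h2
  exact ⟨⟨g, hE⟩, ⟨hE, hM⟩, rfl⟩

theorem ex_one_of_tri {M : G8 F} (h : TriS M M M) : Ex 1 M := by
  intro u w
  rw [dia_one, dia_one, h, aut_oconj h, aut_oconj h]

theorem xt_one (hG : Good (plusForm 4 F)) : xt hG 1 = rho hG := by
  rw [xt, map_one (Psi (plusForm 4 F)), one_mul]

/-- **linear octonion automorphisms are in `Ω`** -/
theorem mem_E_of_aut [Finite F] (hG : Good (plusForm 4 F)) {M : G8 F} (hT : TriS M M M)
    (hl : H198.TriDia.IsLin M) :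
    ∃ g : ↥(E (plusForm 4 F)), tg (plusForm 4 F) g = M ∧ rho hG (g : P8 F) = (g : P8 F) := by
  obtain ⟨g, hg, h⟩ := exists_autD hG TriS.one (one_pow 3) (ex_one_of_tri hT) hl
  refine ⟨g, h, ?_⟩
  have h1 := (mem_Fx_xt hG (TriS.one (F := F))).2 ⟨g, rfl, hg⟩
  rw [H206.Balance.mem_Fx, xt_one] at h1
  exact h1

/-- linear automorphisms of the para-octonions are octonion automorphisms -/
theorem tri_of_ex_one {M : G8 F} (hl : H198.TriDia.IsLin M)
    (hd : ∀ u w, M.1 (dia (1 : G8 F) u w) = dia 1 (M.1 u) (M.1 w)) : TriS M M M := by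
  obtain ⟨c, hc⟩ := hl
  let g : V8 F ≃ₗ[F] V8 F := { M.1 with
    map_add' := hc.add
    map_smul' := hc.smul }
  exact dia_one_aut (g := g) hd

/-! ### Linear members of the frame -/

/-- **the linear members of the frame are in `N`** -/
theorem Fr.mem [Finite F] {hG : Good (plusForm 4 F)} {G Ω ι : Type*} [Group G] [MulAction G Ω] {N : Subgroup G}
    (hE : Env G Ω N) {σ : P8 F →* G} {x : ι → G} {r : ι → ℕ} {i₁ : ι} {τ : G8 F} {M : ι → G8 F}
    (h : Fr hG N x r σ i₁ τ M) {j : ι} (hj : j ≠ i₁) (hl : H198.TriDia.IsLin (M j)) :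
    ∃ g : ↥(E (plusForm 4 F)), (g : V8 F ≃ₗ[F] V8 F) ∈ AutD τ ∧ tg (plusForm 4 F) g = M j ∧ x j = up σ g := by
  obtain ⟨g, hg, h1⟩ := exists_autD hG h.tri h.cube (h.ex j) hl
  refine ⟨g, hg, h1, ?_⟩
  have h2 : La σ (x j) (Psi _ (M j)) := La.lf.2 (h.lf j hj)
  have h3 : La σ (up σ g) (Psi _ (M j)) := by
    rw [← h1]
    exact La.lf.2 (Lf.tg g)
  exact La.eq hE h.rp h2 h3

end Cfsg.Agent.H675.RC
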