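import Mathlib

/-!
# S4191 : numerical inequalities (helper675)
-/

set_option autoImplicit false

namespace Cfsg.Agent.H675.RC

theorem succ_pow_le {a b k e : ℕ} (he : b ≤ e) (h : (b + 1) ^ k ≤ a * b ^ k) :
    (e + 1) ^ k ≤ a * e ^ k := by
  rcases Nat.eq_zero_or_pos b with rfl | hb
  · rcases Nat.eq_zero_or_pos k with rfl | hk
    · simpa using h
    · rw [zero_pow hk.ne', mul_zero] at h
      have : 0 < (0 + 1) ^ k := by positivity
      omega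
  have h1 : b * (e + 1) ≤ (b + 1) * e := by nlinarith
  have h2 : b ^ k * (e + 1) ^ k ≤ b ^ k * (a * e ^ k) := by
    calc b ^ k * (e + 1) ^ k = (b * (e + 1)) ^ k := (mul_pow _ _ _).symm
      _ ≤ ((b + 1) * e) ^ k := Nat.pow_le_pow_left h1 k
      _ = (b + 1) ^ k * e ^ k := mul_pow _ _ _
      _ ≤ (a * b ^ k) * e ^ k := Nat.mul_le_mul_right _ h
      _ = b ^ k * (a * e ^ k) := by ring
  exact Nat.le_of_mul_le_mul_left h2 (pow_pos hb k)

theorem ind_pow {a b k c e₀ : ℕ} (h0 : b ≤ e₀) (hs : (b + 1) ^ k ≤ a * b ^ k) {g : ℕ} (hag : a ≤ g) {s : ℕ}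
    (hbase : c * e₀ ^ k ≤ g ^ s) {e : ℕ} (he : e₀ ≤ e) : c * e ^ k ≤ g ^ (s + (e - e₀)) := by
  induction e, he using Nat.le_induction with
  | base => simpa using hbase
  | succ e he ih =>
    have h1 := succ_pow_le (h0.trans he) hs
    have h2 : s + (e + 1 - e₀) = s + (e - e₀) + 1 := by omega
    rw [h2, pow_succ]
    calc c * (e + 1) ^ k ≤ c * (a * e ^ k) := Nat.mul_le_mul_left _ h1
      _ = (c * e ^ k) * a := by ring
      _ ≤ g ^ (s + (e - e₀)) * g := Nat.mul_le_mul ih hag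

theorem num_a {e f : ℕ} (h : (25 ≤ e ∧ 11 ≤ f) ∨ (49 ≤ e ∧ 5 ≤ f)) : 16 * f ^ 2 * e ^ 16 ≤ f ^ e := by
  rcases h with ⟨he, hf⟩ | ⟨he, hf⟩
  · have h1 : 16 * e ^ 16 ≤ f ^ (e - 2) := by
      have h2 := ind_pow (a := 2) (b := 25) (k := 16) (c := 16) (e₀ := 25) le_rfl (by norm_num) (g := 11) (by norm_num)
        (s := 23) (by norm_num) he
      refine h2.trans ((Nat.pow_le_pow_left hf _).trans (le_of_eq ?_))
      congr 1
      omega
    calc 16 * f ^ 2 * e ^ 16 = f ^ 2 * (16 * e ^ 16) := by ring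
      _ ≤ f ^ 2 * f ^ (e - 2) := Nat.mul_le_mul_left _ h1
      _ = f ^ e := by rw [← pow_add]; congr 1; omega
  · have h1 : 16 * e ^ 16 ≤ f ^ (e - 2) := by
      have h2 := ind_pow (a := 2) (b := 25) (k := 16) (c := 16) (e₀ := 49) (by norm_num) (by norm_num) (g := 5)
        (by norm_num) (s := 47) (by norm_num) he
      refine h2.trans ((Nat.pow_le_pow_left hf _).trans (le_of_eq ?_))
      congr 1
      omega
    calc 16 * f ^ 2 * e ^ 16 = f ^ 2 * (16 * e ^ 16) := by ring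
      _ ≤ f ^ 2 * f ^ (e - 2) := Nat.mul_le_mul_left _ h1
      _ = f ^ e := by rw [← pow_add]; congr 1; omega

theorem num_b {e f : ℕ} (h : (25 ≤ e ∧ 11 ≤ f) ∨ (49 ≤ e ∧ 5 ≤ f)) : 64 * f ^ 6 * e ^ 24 ≤ (f ^ e) ^ 2 := by
  have key : 64 * e ^ 24 ≤ f ^ (2 * e - 6) := by
    rcases h with ⟨he, hf⟩ | ⟨he, hf⟩
    · have h2 := ind_pow (a := 3) (b := 25) (k := 24) (c := 64) (e₀ := 25) le_rfl (by norm_num) (g := 11) (by norm_num)
        (s := 44) (by norm_num) he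
      refine h2.trans ((Nat.pow_le_pow_left hf _).trans (Nat.pow_le_pow_right (by omega) ?_))
      omega
    · have h2 := ind_pow (a := 3) (b := 25) (k := 24) (c := 64) (e₀ := 49) (by norm_num) (by norm_num) (g := 5)
        (by norm_num) (s := 92) (by norm_num) he
      refine h2.trans ((Nat.pow_le_pow_left hf _).trans (Nat.pow_le_pow_right (by omega) ?_))
      omega
  have he3 : 3 ≤ e := by rcases h with h | h <;> omega
  calc 64 * f ^ 6 * e ^ 24 = f ^ 6 * (64 * e ^ 24) := by ring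
    _ ≤ f ^ 6 * f ^ (2 * e - 6) := Nat.mul_le_mul_left _ key
    _ = (f ^ e) ^ 2 := by rw [← pow_add, ← pow_mul]; congr 1; omega

/-- the final count -/
theorem count_main {V N₁ N₂ c₁ c₂ b : ℕ} (hV : 0 < V) (h1 : 16 * N₁ ^ 2 ≤ V) (h2 : 64 * N₂ ^ 3 ≤ V ^ 2) (h3 : 8 * N₂ ≤ V)
    (hc1 : c₁ ^ 2 ≤ V) (hc2 : c₂ ^ 3 ≤ V) (hb : b ≤ N₁ * c₁ + N₂ * c₂) : b + 2 * N₂ < V := by
  have h4 : 4 * (N₁ * c₁) ≤ V := by
    have : (4 * (N₁ * c₁)) ^ 2 ≤ V ^ 2 := by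
      calc (4 * (N₁ * c₁)) ^ 2 = (16 * N₁ ^ 2) * c₁ ^ 2 := by ring
        _ ≤ V * V := Nat.mul_le_mul h1 hc1
        _ = V ^ 2 := by ring
    exact (Nat.pow_le_pow_iff_left two_ne_zero).1 this
  have h5 : 4 * (N₂ * c₂) ≤ V := by
    have : (4 * (N₂ * c₂)) ^ 3 ≤ V ^ 3 := by
      calc (4 * (N₂ * c₂)) ^ 3 = (64 * N₂ ^ 3) * c₂ ^ 3 := by ring
        _ ≤ V ^ 2 * V := Nat.mul_le_mul h2 hc2
        _ = V ^ 3 := by ring
    exact (Nat.pow_le_pow_iff_left three_ne_zero).1 this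
  omega

end Cfsg.Agent.H675.RC
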