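import Cfsg.Agent.H675.RC.Count
import Cfsg.Agent.H675.RC.NumThree
import Cfsg.Agent.H273.RC.FHS
import Cfsg.Agent.S3360

/-!
# S4191, PR3 : primitive linear groups, `p = 3` (helper675)
-/

set_option autoImplicit false
set_option linter.unusedSectionVars false
set_option linter.style.haveILetI false

namespace Cfsg.Agent.H675.RC

open Cfsg.Agent.H527.RC Cfsg.Agent.H822.Cls Cfsg.Agent.H668.Dim
open scoped Pointwise commutatorElement

universe u

/-- metabelian groups -/
theorem fh_two_of_comm {G : Type u} [Group G] (h : ∀ a ∈ _root_.commutator G, ∀ b ∈ _root_.commutator G, a * b = b * a) :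
    FH 2 G := by
  refine ⟨_root_.commutator G, inferInstance, ?_, ?_⟩
  · let _ : CommGroup (_root_.commutator G) :=
      { (inferInstance : Group (_root_.commutator G)) with mul_comm := fun a b => Subtype.ext (h a a.2 b b.2) }
    infer_instance
  · rw [FH.one_iff]
    have : Group.IsNilpotent (Abelianization G) := inferInstance
    exact this

/-- semilinear groups of dimension one are metabelian -/
theorem fh_two_of_semilinear {H W : Type u} [Group H] [AddCommGroup W] [DistribMulAction H W]
    (hf : ∀ h : H, (∀ w : W, h • w = w) → h = 1) {K : Type} [Field K] [Finite K] (e : W ≃+ K)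
    (hs : ∀ g : H, ∃ (a : K) (σ : K ≃+* K), ∀ v : W, e (g • v) = a * σ (e v)) : FH 2 H := by
  have key : ∀ x ∈ _root_.commutator H, ∃ c : K, ∀ v : W, e (x • v) = c * e v := by
    let T : Subgroup H :=
      { carrier := {x | ∃ c : K, ∀ v : W, e (x • v) = c * e v}
        one_mem' := ⟨1, fun v => by rw [one_smul, one_mul]⟩
        mul_mem' := by
          rintro a b ⟨c, hc⟩ ⟨d, hd⟩
          exact ⟨c * d, fun v => by rw [mul_smul, hc, hd, mul_assoc]⟩
        inv_mem' := by
          rintro a ⟨c, hc⟩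
          refine ⟨c⁻¹, fun v => ?_⟩
          by_cases hc0 : c = 0
          · have h1 : e v = 0 := by
              have := hc (a⁻¹ • v)
              rw [smul_inv_smul, hc0, zero_mul] at this
              exact this
            have h2 : v = 0 := by
              apply e.injective
              rw [h1, map_zero]
            rw [h2, smul_zero, map_zero, mul_zero]
          · have := hc (a⁻¹ • v)
            rw [smul_inv_smul] at this
            rw [this, inv_mul_cancel_left₀ hc0] }
    have hT : _root_.commutator H ≤ T := by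
      rw [_root_.commutator_def, Subgroup.commutator_le]
      intro x _ y _
      obtain ⟨a, σ, h1⟩ := hs x
      obtain ⟨b, τ, h2⟩ := hs y
      refine ⟨a * σ b * (b * τ a)⁻¹, fun v => ?_⟩
      have h3 : ∀ w : W, e ((x * y) • w) = a * σ b * σ (τ (e w)) := by
        intro w
        rw [mul_smul, h1, h2, map_mul, mul_assoc]
      have h4 : ∀ w : W, e ((y * x) • w) = b * τ a * σ (τ (e w)) := by
        intro w
        rw [mul_smul, h2, h1, map_mul, mul_assoc]
        congr 2
        exact DFunLike.congr_fun (ringEquiv_comm τ σ) (e w)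
      have h5 : ⁅x, y⁆ • v = (x * y) • ((y * x)⁻¹ • v) := by
        rw [smul_smul, commutatorElement_def, mul_inv_rev]
        group
      have h6 := h4 ((y * x)⁻¹ • v)
      rw [smul_inv_smul] at h6
      rw [h5, h3, h6]
      by_cases hz : b * τ a = 0
      · rw [hz, zero_mul, mul_zero]
        have h7 : e v = 0 := by rw [h6, hz, zero_mul]
        have h8 : v = 0 := by
          apply e.injective
          rw [h7, map_zero]
        rw [h8, smul_zero, map_zero, map_zero, map_zero, mul_zero]
      · rw [mul_assoc (a * σ b), inv_mul_cancel_left₀ hz]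
    intro x hx
    exact hT hx
  apply fh_two_of_comm
  intro a ha b hb
  obtain ⟨c, hc⟩ := key a ha
  obtain ⟨d, hd⟩ := key b hb
  have h1 : ∀ v : W, (a * b) • v = (b * a) • v := by
    intro v
    apply e.injective
    rw [mul_smul, mul_smul, hc, hd, hd, hc]
    ring
  have h6 : (b * a)⁻¹ * (a * b) = 1 := hf _ fun w => by rw [mul_smul, h1, inv_smul_smul]
  exact (inv_mul_eq_one.1 h6).symm

/-- transitive solvable linear groups of large dimension over a subfield -/
theorem fh_two_of_transitive {H W F : Type u} [Group H] [Finite H] [Group.IsSolvable H] [AddCommGroup W] [Finite W]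
    [Nontrivial W] [DistribMulAction H W] [Field F] [Finite F] [Module F W] (r : ℕ) (hr : r.Prime) (hr3 : r ≠ 3)
    (hrW : ∀ w : W, r • w = 0) (hf : ∀ h : H, (∀ w : W, h • w = w) → h = 1) (hd : 4 ≤ Module.finrank F W)
    (htr : ∀ v w : W, v ≠ 0 → w ≠ 0 → ∃ h : H, h • v = w) : FH 2 H := by
  have hrf : Fact r.Prime := ⟨hr⟩
  letI hmod : Module (ZMod r) W := AddCommGroup.zmodModule (n := r) hrW
  have hcomm : SMulCommClass H (ZMod r) W :=
    ⟨fun h c w => ZMod.map_smul (DistribSMul.toAddMonoidHom W h) c w⟩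
  let ρ : H →* (W ≃ₗ[ZMod r] W) := DistribMulAction.toModuleAut (ZMod r) W
  have hρ : Function.Injective ρ := by
    intro a b hab
    have h1 : ∀ w : W, a • w = b • w := fun w => LinearEquiv.congr_fun hab w
    have h2 : b⁻¹ * a = 1 := hf _ fun w => by rw [mul_smul, h1, inv_smul_smul]
    exact (inv_mul_eq_one.1 h2).symm
  have htr' : ∀ v w : W, v ≠ 0 → w ≠ 0 → ∃ h : H, ρ h v = w := htr
  rcases S3360.result r (V := W) (G := H) inferInstance ρ hρ htr' with ⟨K, hK1, hK2, e, he⟩ | hcard
  · exact fh_two_of_semilinear hf e he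
  · exfalso
    have hfin : Module.Finite F W := Module.Finite.of_finite
    have hW : Nat.card W = Nat.card F ^ Module.finrank F W := Module.natCard_eq_pow_finrank (K := F) (V := W)
    have hfin' : Module.Finite (ZMod r) W := Module.Finite.of_finite
    have hW' : Nat.card W = r ^ Module.finrank (ZMod r) W := by
      have := Module.natCard_eq_pow_finrank (K := ZMod r) (V := W)
      rwa [Nat.card_zmod] at this
    have h3 : ¬ 3 ∣ Nat.card W := by
      intro h
      rw [hW'] at h
      exact hr3 ((Nat.prime_dvd_prime_iff_eq Nat.prime_three hr).1 (Nat.prime_three.dvd_of_dvd_pow h)).symm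
    have hf2 : 2 ≤ Nat.card F := Finite.one_lt_card
    have h4 : Nat.card F ^ 4 ≤ Nat.card W := by
      rw [hW]
      exact Nat.pow_le_pow_right (by omega) hd
    have h5 : Nat.card F ∣ Nat.card W := by
      rw [hW]
      exact dvd_pow_self _ (by omega)
    have h6 : Nat.card W ≤ 529 := by
      simp only [Set.mem_insert_iff, Set.mem_singleton_iff] at hcard
      omega
    have h7 : Nat.card F < 5 := by
      by_contra hcon
      have : 5 ^ 4 ≤ Nat.card F ^ 4 := Nat.pow_le_pow_left (by omega) 4
      omega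
    simp only [Set.mem_insert_iff, Set.mem_singleton_iff] at hcard
    generalize Nat.card F = f at *
    generalize Nat.card W = w at *
    have h8 : f = 2 ∨ f = 3 ∨ f = 4 := by omega
    rcases h8 with rfl | rfl | rfl <;> omega

/-- the field of scalars -/
theorem card_F {W F : Type u} [AddCommGroup W] [Nontrivial W] [Field F] [Finite F] [Module F W] (r : ℕ)
    (hr : r.Prime) (hrW : ∀ w : W, r • w = 0) : ∃ n : ℕ, 1 ≤ n ∧ Nat.card F = r ^ n := by
  have : Fintype F := Fintype.ofFinite F
  obtain ⟨p, hpc, n, hp, hF⟩ := FiniteField.card' F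
  have hrp : p = r := by
    by_contra hne
    obtain ⟨w, hw⟩ := exists_ne (0 : W)
    have h1 : p • w = 0 := by
      rw [← Nat.cast_smul_eq_nsmul F, CharP.cast_eq_zero, zero_smul]
    have h2 : addOrderOf w ∣ 1 := by
      have h3 : Nat.Coprime p r := (Nat.coprime_primes hp hr).2 hne
      rw [← h3.gcd_eq_one]
      exact Nat.dvd_gcd (addOrderOf_dvd_of_nsmul_eq_zero h1) (addOrderOf_dvd_of_nsmul_eq_zero (hrW w))
    exact hw (AddMonoid.addOrderOf_eq_one_iff.1 (Nat.dvd_one.1 h2))
  refine ⟨n, n.pos, ?_⟩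
  rw [Nat.card_eq_fintype_card, hF, hrp]

theorem ge_five {f r n : ℕ} (hr : r.Prime) (hr3 : r ≠ 3) (hn : 1 ≤ n) (hf : f = r ^ n) (h2 : 2 ∣ f - 1) (hf2 : 2 ≤ f) :
    5 ≤ f := by
  by_contra hcon
  have h3 : f = 3 := by omega
  rw [h3] at hf
  have : r ∣ 3 := by rw [hf]; exact dvd_pow_self r (by omega)
  exact hr3 ((Nat.prime_dvd_prime_iff_eq hr Nat.prime_three).1 this)

theorem ge_eleven {f r n : ℕ} (hr : r.Prime) (hf : f = r ^ n) (h5 : 5 ∣ f - 1) (hf2 : 2 ≤ f) :
    11 ≤ f := by
  by_contra hcon
  have h6 : f = 6 := by omega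
  rw [h6] at hf
  have h2 : 2 ∣ r ^ n := by rw [← hf]; norm_num
  have h3 : 3 ∣ r ^ n := by rw [← hf]; norm_num
  have h2' := (Nat.prime_dvd_prime_iff_eq Nat.prime_two hr).1 (Nat.prime_two.dvd_of_dvd_pow h2)
  have h3' := (Nat.prime_dvd_prime_iff_eq Nat.prime_three hr).1 (Nat.prime_three.dvd_of_dvd_pow h3)
  omega

section Main

variable {H W F : Type u} [Group H] [Finite H] [Group.IsSolvable H] [AddCommGroup W] [Finite W] [Nontrivial W]
  [DistribMulAction H W] [Field F] [Finite F] [Module F W] (D : Prim H W F)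

/-- the image of `L ∩ C(A)` on a small `X_q` has Fitting height at most three -/
theorem fh_three_im {L : Subgroup H} (hL : LP 3 L) {Q : Finset ℕ} {m : ℕ → ℕ} (hD : D.Num Q m) {q : ℕ} (hq : q ∈ Q)
    (h : (q = 2 ∧ 2 * m q ≤ 12) ∨ 2 * m q = 2) :
    FH 3 ((L ⊓ Subgroup.centralizer (D.A : Set H)).map (rho D q).rangeRestrict) := by
  classical
  have hn := LA_normal D hL.normal
  set LA : Subgroup H := L ⊓ Subgroup.centralizer (D.A : Set H) with hLA
  let K : Subgroup (rho D q).range := LA.map (rho D q).rangeRestrict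
  let f : K →* MulAut (XQ D q) := (rho D q).range.subtype.comp K.subtype
  letI := act f
  have hsol : Group.IsSolvable K := by
    have : Group.IsSolvable (rho D q).range := Group.isSolvable_of_surjective (rho D q).rangeRestrict_surjective
    infer_instance
  refine H273.RC.fhs_three (D := K) (X := Additive (XQ D q)) hsol ?_ (hD.prime q hq) ?_ (n := 2 * m q) ?_ ?_ ?_ (by omega)
  · intro h3
    apply hL.cop
    exact h3.trans ((Subgroup.card_map_dvd LA _).trans (Subgroup.card_dvd_of_le inf_le_left))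
  · intro x
    have := cl_pow D q x.toMul
    exact congrArg Additive.ofMul this
  · exact card_XQ D hD hq
  · intro g hg
    apply Subtype.ext
    apply Subtype.ext
    ext x
    have := hg (Additive.ofMul x)
    exact congrArg (fun z : XQ D q => (z : H ⧸ D.A)) (congrArg Additive.toMul this)
  · intro N hN hNq
    exact no_q D (hD.prime q hq) hn N hN hNq

/-- `L ∩ C(A)` acts trivially on `X_2` if it has order four -/
theorem triv_two {L : Subgroup H} (hL : LP 3 L) {Q : Finset ℕ} {m : ℕ → ℕ} (hD : D.Num Q m) (hq : 2 ∈ Q)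
    (h : m 2 = 1) : ∀ x ∈ (L ⊓ Subgroup.centralizer (D.A : Set H) : Subgroup H), D.Triv 2 x := by
  have hn := LA_normal D hL.normal
  refine D.ss 2 Nat.prime_two _ hn ?_
  intro x hx
  refine ⟨3, (rho_eq_one_iff D (x ^ 2 ^ 3)).1 ?_⟩
  rw [map_pow, ← orderOf_dvd_iff_pow_eq_one]
  have h4 : Nat.card (XQ D 2) = 4 := by
    rw [card_XQ D hD hq, h]
    norm_num
  have hfin : Finite (XQ D 2) := Nat.finite_of_card_ne_zero (by omega)
  have h1 : orderOf (rho D 2 x) ∣ 24 := by
    have h5 : orderOf ((MulAut.toPerm (XQ D 2)) (rho D 2 x)) = orderOf (rho D 2 x) :=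
      orderOf_injective (MulAut.toPerm (XQ D 2)) (fun a b hab => MulEquiv.toEquiv_injective hab) _
    rw [← h5]
    have h6 : Nat.card (Equiv.Perm (XQ D 2)) = 24 := by
      rw [Nat.card_perm, h4]
      rfl
    rw [← h6]
    exact orderOf_dvd_natCard _
  have h2 : orderOf (rho D 2 x) ∣ Nat.card L := (orderOf_map_dvd _ x).trans (Subgroup.orderOf_dvd_natCard L hx.1)
  have h3 : Nat.Coprime (orderOf (rho D 2 x)) 3 := by
    rw [Nat.coprime_comm, Nat.Prime.coprime_iff_not_dvd Nat.prime_three]
    intro h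
    exact hL.cop (h.trans h2)
  have h7 : orderOf (rho D 2 x) ∣ 8 * 3 := h1
  exact h3.dvd_of_dvd_mul_right h7

theorem le_prod {Q : Finset ℕ} {m : ℕ → ℕ} (hD : D.Num Q m) {q : ℕ} (hq : q ∈ Q) :
    q ^ m q ≤ ∏ q ∈ Q, q ^ m q :=
  Finset.single_le_prod' (f := fun q => q ^ m q) (fun i hi => Nat.one_le_pow _ _ (hD.prime i hi).pos) hq

end Main

/-- **PR3** -/
theorem corePrim_three : CorePrim.{u} 3 4 2 3 := by
  intro H W _ _ _ _ _ _ _ L r hL hr hr3 hrW hf hirr hprim
  classical
  by_contra hcon
  push Not at hcon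
  obtain ⟨hFH, hO⟩ := hcon
  have hIrr : Irr H W := fun X hX => hirr X fun g _ => hX g
  obtain ⟨F, _, _, _, ⟨D⟩⟩ := existsPrim H W r hr hrW hf hIrr hprim
  obtain ⟨Q, m, hD⟩ := H308.ClsNum.exists_num H W F D
  have h3Q : 3 ∉ Q := not_mem_Q D Nat.prime_three hL hf hirr hD
  have hfin : Module.Finite F W := Module.Finite.of_finite
  have hW : Nat.card W = Nat.card F ^ Module.finrank F W := Module.natCard_eq_pow_finrank (K := F) (V := W)
  have hf2 : 2 ≤ Nat.card F := Finite.one_lt_card
  obtain ⟨n, hn, hFr⟩ := card_F (F := F) (W := W) r hr hrW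
  -- a nontrivial part
  have hpart : 4 ≤ ∏ q ∈ Q, q ^ m q := by
    have h1 : ∃ q ∈ Q, ∃ x ∈ (L ⊓ Subgroup.centralizer (D.A : Set H) : Subgroup H), ¬ D.Triv q x := by
      by_contra hc
      push Not at hc
      exact hFH (fh_two_of_le D fun x hx => mem_of_triv D hD hx.2 fun q hq => hc q hq x hx)
    obtain ⟨q, hq, x, hx, hqx⟩ := h1
    refine le_trans ?_ (le_prod D hD hq)
    have hqp := hD.prime q hq
    have hm1 := hD.one_le q hq
    have hq3 : q ≠ 3 := by rintro rfl; exact h3Q hq
    by_cases hq2 : q = 2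
    · subst hq2
      have hm2 : m 2 ≠ 1 := fun h => hqx (triv_two D hL hD hq h x hx)
      calc 4 = 2 ^ 2 := rfl
        _ ≤ 2 ^ m 2 := Nat.pow_le_pow_right (by norm_num) (by omega)
    · have := hqp.two_le
      calc 4 ≤ q := by omega
        _ = q ^ 1 := (pow_one q).symm
        _ ≤ q ^ m q := Nat.pow_le_pow_right hqp.pos hm1
  by_cases hbad : ∃ y : H, PEl 3 y ∧ ¬ FH 4 (⁅L, Subgroup.zpowers y⁆ : Subgroup H)
  · -- counting
    obtain ⟨y, hy, hyL⟩ := hbad
    obtain ⟨q, hq, hqim⟩ := exists_q D (t := 3) L hD (not_fh_LA D hL hyL)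
    have hqp := hD.prime q hq
    have hm1 := hD.one_le q hq
    have hq3 : q ≠ 3 := by rintro rfl; exact h3Q hq
    have hnot : ¬ ((q = 2 ∧ 2 * m q ≤ 12) ∨ 2 * m q = 2) := fun h => hqim (fh_three_im D hL hD hq h)
    have hqe := le_prod D hD hq
    have hqf := hD.dvd q hq
    have hnum : (25 ≤ ∏ q ∈ Q, q ^ m q ∧ 11 ≤ Nat.card F) ∨ (49 ≤ ∏ q ∈ Q, q ^ m q ∧ 5 ≤ Nat.card F) := by
      by_cases hq2 : q = 2
      · subst hq2
        right
        refine ⟨le_trans ?_ hqe, ge_five hr hr3 hn hFr hqf hf2⟩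
        calc 49 ≤ 2 ^ 7 := by norm_num
          _ ≤ 2 ^ m 2 := Nat.pow_le_pow_right (by norm_num) (by omega)
      · have hm2 : 2 ≤ m q := by omega
        have hqm : q ^ 2 ≤ ∏ q ∈ Q, q ^ m q := le_trans (Nat.pow_le_pow_right hqp.pos hm2) hqe
        by_cases hq5 : q = 5
        · subst hq5
          left
          exact ⟨hqm, ge_eleven hr hFr hqf hf2⟩
        · right
          have hq7 : 7 ≤ q := by
            by_contra hc
            have := hqp.two_le
            have h6 : q = 4 ∨ q = 6 := by omega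
            rcases h6 with rfl | rfl
            · revert hqp; norm_num
            · revert hqp; norm_num
          refine ⟨le_trans (by nlinarith) hqm, ?_⟩
          have := Nat.le_of_dvd (by omega) hqf
          omega
    set e := ∏ q ∈ Q, q ^ m q with he
    set f := Nat.card F with hfdef
    have hV : f ^ e ≤ Nat.card W := by
      rw [hW]
      exact Nat.pow_le_pow_right (by omega) hD.le_finrank
    have hN1 : Nat.card (Subgroup.centralizer (D.A : Set H)) ≤ f * e ^ 8 :=
      (card_cent_le D hD).trans (Nat.mul_le_mul_right _ (Nat.sub_le _ _))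
    have hN2 : Nat.card H ≤ f ^ 2 * e ^ 8 := by
      refine (H120.RC.card_le_log D hD).trans (Nat.mul_le_mul_right _ ?_)
      rw [pow_two]
      exact Nat.mul_le_mul (Nat.log_le_self 2 _) (Nat.sub_le _ _)
    have na := num_a hnum
    have nb := num_b hnum
    have hVpos : 0 < Nat.card W := Nat.card_pos
    have g1 : 16 * Nat.card (Subgroup.centralizer (D.A : Set H)) ^ 2 ≤ Nat.card W := by
      calc 16 * Nat.card (Subgroup.centralizer (D.A : Set H)) ^ 2 ≤ 16 * (f * e ^ 8) ^ 2 :=
            Nat.mul_le_mul_left _ (Nat.pow_le_pow_left hN1 2)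
        _ = 16 * f ^ 2 * e ^ 16 := by ring
        _ ≤ f ^ e := na
        _ ≤ _ := hV
    have g2 : 64 * Nat.card H ^ 3 ≤ Nat.card W ^ 2 := by
      calc 64 * Nat.card H ^ 3 ≤ 64 * (f ^ 2 * e ^ 8) ^ 3 :=
            Nat.mul_le_mul_left _ (Nat.pow_le_pow_left hN2 3)
        _ = 64 * f ^ 6 * e ^ 24 := by ring
        _ ≤ (f ^ e) ^ 2 := nb
        _ ≤ _ := Nat.pow_le_pow_left hV 2
    have g3 : 8 * Nat.card H ≤ Nat.card W := by
      have h1 : 1 ≤ e ^ 8 := Nat.one_le_pow _ _ (by omega)
      calc 8 * Nat.card H ≤ 8 * (f ^ 2 * e ^ 8) := Nat.mul_le_mul_left _ hN2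
        _ ≤ 16 * (f ^ 2 * (e ^ 8 * e ^ 8)) :=
            Nat.mul_le_mul (by norm_num) (Nat.mul_le_mul_left _ (Nat.le_mul_of_pos_right _ h1))
        _ = 16 * f ^ 2 * e ^ 16 := by ring
        _ ≤ f ^ e := na
        _ ≤ _ := hV
    have hc2 : Nat.findGreatest (fun c => c ^ 3 ≤ Nat.card W) (Nat.card W) ^ 3 ≤ Nat.card W :=
      Nat.findGreatest_spec (P := fun c => c ^ 3 ≤ Nat.card W) (m := 0) (Nat.zero_le _) (by simp)
    have hb := card_bad_le D Nat.prime_three (by norm_num) (t := 4) (by norm_num) hL hf hirr hD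
      (Nat.sqrt (Nat.card W)) (Nat.findGreatest (fun c => c ^ 3 ≤ Nat.card W) (Nat.card W))
      (fun c hc => Nat.le_sqrt'.2 hc)
      (fun c hc => Nat.le_findGreatest (le_trans (Nat.le_self_pow (by norm_num) c) hc) hc)
    have hcount := count_main hVpos g1 g2 g3 (Nat.sqrt_le' _) hc2 hb
    apply hO
    apply orbs_of_card 2
    have h9 : Nat.card {w : W // Gd (V := W) 3 4 L w} + Nat.card {w : W // ¬ Gd (V := W) 3 4 L w} = Nat.card W := by
      rw [← Nat.card_sum]
      exact Nat.card_congr (Equiv.sumCompl _)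
    omega
  · -- all vectors are good
    push Not at hbad
    have hgood : ∀ w : W, Gd (V := W) 3 4 L w := fun w y hy _ => hbad y hy
    by_cases htr : ∀ v w : W, v ≠ 0 → w ≠ 0 → ∃ h : H, h • v = w
    · apply hFH
      exact (fh_two_of_transitive (F := F) r hr hr3 hrW hf (hpart.trans hD.le_finrank) htr).subgroup L
    · push Not at htr
      obtain ⟨v, w, hv, hw, hvw⟩ := htr
      apply hO
      refine ⟨![0, v, w], fun i => hgood _, ?_⟩
      intro i j h hij
      fin_cases i <;> fin_cases j
      · rfl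
      · exfalso
        simp only [Fin.zero_eta, Matrix.cons_val_zero, smul_zero, Fin.mk_one, Matrix.cons_val_one] at hij
        exact hv hij.symm
      · exfalso
        have hij' : h • (0 : W) = w := hij
        rw [smul_zero] at hij'
        exact hw hij'.symm
      · exfalso
        have hij' : h • v = 0 := hij
        exact hv ((smul_eq_zero_iff_eq h).1 hij')
      · rfl
      · exact absurd hij (hvw h)
      · exfalso
        have hij' : h • w = 0 := hij
        exact hw ((smul_eq_zero_iff_eq h).1 hij')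
      · exfalso
        have hij' : h • w = v := hij
        exact hvw h⁻¹ (by rw [← hij', inv_smul_smul])
      · rfl

end Cfsg.Agent.H675.RC
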