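import Cfsg.Agent.H675.RC.PrimA
import Cfsg.Agent.H120.RC.Ord

/-!
# S4191 : counting good vectors (helper675)
-/

set_option autoImplicit false
set_option linter.unusedSectionVars false
set_option linter.style.haveILetI false

namespace Cfsg.Agent.H675.RC

open Cfsg.Agent.H527.RC Cfsg.Agent.H822.Cls Cfsg.Agent.H668.Dim
open scoped Pointwise commutatorElement

universe u

/-- many points with a property lie in many orbits -/
theorem orbs_of_card {H V : Type*} [Group H] [Finite H] [MulAction H V] [Finite V] (k : ℕ) (Q : V → Prop)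
    (h : k * Nat.card H < Nat.card {v : V // Q v}) : Orbs H (k + 1) Q := by
  classical
  have : Fintype V := Fintype.ofFinite V
  have : Fintype (MulAction.orbitRel.Quotient H V) := Fintype.ofFinite _
  let S : Finset V := Finset.univ.filter Q
  let f : V → MulAction.orbitRel.Quotient H V := fun v => Quotient.mk'' v
  have hS : Nat.card {v : V // Q v} = S.card := by
    rw [Nat.card_eq_fintype_card, Fintype.card_subtype]
  have hfib : ∀ a ∈ S.image f, (S.filter (fun x => f x = a)).card ≤ Nat.card H := by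
    intro a ha
    obtain ⟨v, hv, rfl⟩ := Finset.mem_image.1 ha
    have h1 : (((S.filter (fun x => f x = f v) : Finset V)) : Set V) ⊆ MulAction.orbit H v := by
      intro x hx
      rw [Finset.mem_coe, Finset.mem_filter] at hx
      have := Quotient.exact hx.2
      exact this
    have h2 : (S.filter (fun x => f x = f v)).card ≤ (MulAction.orbit H v).ncard := by
      rw [← Set.ncard_coe_finset]
      exact Set.ncard_le_ncard h1 (Set.toFinite _)
    refine h2.trans ?_
    rw [← MulAction.index_stabilizer]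
    exact Nat.le_of_dvd Nat.card_pos (Subgroup.index_dvd_card _)
  have h1 := Finset.card_le_mul_card_image S (Nat.card H) hfib
  have h2 : k < (S.image f).card := by
    rw [hS] at h
    have h3 := lt_of_lt_of_le h h1
    rw [mul_comm k] at h3
    exact lt_of_mul_lt_mul_left h3 (Nat.zero_le _)
  obtain ⟨T, hT, hTc⟩ := Finset.exists_subset_card_eq (s := S.image f) (n := k + 1) h2
  have e : Fin (k + 1) ≃ T := (Finset.equivFinOfCardEq hTc).symm
  have hrep : ∀ o : T, ∃ v, Q v ∧ f v = o := by
    intro o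
    obtain ⟨v, hv, hvo⟩ := Finset.mem_image.1 (hT o.2)
    exact ⟨v, (Finset.mem_filter.1 hv).2, hvo⟩
  choose g hg1 hg2 using hrep
  refine ⟨fun i => g (e i), fun i => hg1 _, ?_⟩
  intro i j x hx
  apply e.injective
  apply Subtype.ext
  have hx' : x • g (e i) = g (e j) := hx
  rw [← hg2 (e i), ← hg2 (e j), ← hx']
  exact (Quotient.sound ⟨x, rfl⟩ : f (x • g (e i)) = f (g (e i))).symm

section Bad

variable {H W F : Type u} [Group H] [Finite H] [Group.IsSolvable H] [AddCommGroup W] [Finite W] [Nontrivial W]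
  [DistribMulAction H W] [Field F] [Finite F] [Module F W] (D : Prim H W F)

/-- the number of bad vectors -/
theorem card_bad_le {p t : ℕ} (hp : p.Prime) (hp2 : p ≠ 2) (ht : 1 ≤ t) {L : Subgroup H} (hL : LP p L)
    (hf : ∀ h : H, (∀ w : W, h • w = w) → h = 1)
    (hirr : ∀ X : AddSubgroup W, (∀ g ∈ L, ∀ w ∈ X, g • w ∈ X) → X = ⊥ ∨ X = ⊤)
    {Q : Finset ℕ} {m : ℕ → ℕ} (hD : D.Num Q m) (c1 c2 : ℕ) (h1 : ∀ c, c ^ 2 ≤ Nat.card W → c ≤ c1)
    (h2 : ∀ c, c ^ p ≤ Nat.card W → c ≤ c2) :
    Nat.card {w : W // ¬ Gd (V := W) p t L w} ≤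
      Nat.card (Subgroup.centralizer (D.A : Set H)) * c1 + Nat.card H * c2 := by
  classical
  have : Fintype W := Fintype.ofFinite W
  have : Fintype H := Fintype.ofFinite H
  set C := Subgroup.centralizer (D.A : Set H) with hC
  let S1 : Finset H := Finset.univ.filter fun y => y ∈ C ∧ PEl p y ∧ ¬ FH t (⁅L, Subgroup.zpowers y⁆ : Subgroup H)
  let S2 : Finset H := Finset.univ.filter fun y => y ∉ C ∧ PEl p y
  have hsub : (Finset.univ.filter fun w : W => ¬ Gd (V := W) p t L w) ⊆
      (S1.biUnion fun y => Finset.univ.filter fun w : W => y • w = w) ∪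
      (S2.biUnion fun y => Finset.univ.filter fun w : W => y • w = w) := by
    intro w hw
    have hw' := (Finset.mem_filter.1 hw).2
    unfold Gd at hw'
    push Not at hw'
    obtain ⟨y, hy, hyw, hbad⟩ := hw'
    rw [Finset.mem_union, Finset.mem_biUnion, Finset.mem_biUnion]
    by_cases hyC : y ∈ C
    · left
      exact ⟨y, Finset.mem_filter.2 ⟨Finset.mem_univ _, hyC, hy, hbad⟩, Finset.mem_filter.2 ⟨Finset.mem_univ _, hyw⟩⟩
    · right
      exact ⟨y, Finset.mem_filter.2 ⟨Finset.mem_univ _, hyC, hy⟩, Finset.mem_filter.2 ⟨Finset.mem_univ _, hyw⟩⟩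
  have hfix : ∀ y : H, (Finset.univ.filter fun w : W => y • w = w).card = Nat.card {w : W // y • w = w} := by
    intro y
    rw [Nat.card_eq_fintype_card, Fintype.card_subtype]
  have hpQ : p ∉ Q := not_mem_Q D hp hL hf hirr hD
  have e1 : ∀ y ∈ S1, (Finset.univ.filter fun w : W => y • w = w).card ≤ c1 := by
    intro y hy
    obtain ⟨hyC, hyp, hbad⟩ := (Finset.mem_filter.1 hy).2
    rw [hfix]
    apply h1
    obtain ⟨k, hk⟩ := hyp
    have hord : orderOf y ∣ p ^ k := orderOf_dvd_of_pow_eq_one hk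
    refine fixedSq H W F D y hyC ?_ ?_ ?_
    · obtain ⟨j, _, hj⟩ := (Nat.dvd_prime_pow hp).1 hord
      rw [hj]
      exact (hp.odd_of_ne_two hp2).pow
    · refine Nat.Coprime.coprime_dvd_left hord (Nat.Coprime.pow_left k ?_)
      rw [hD.relIndex]
      refine Nat.Coprime.pow_right 2 (Nat.Coprime.prod_right fun q hq => Nat.Coprime.pow_right _ ?_)
      rw [Nat.coprime_primes hp (hD.prime q hq)]
      rintro rfl
      exact hpQ hq
    · by_contra hcon
      push Not at hcon
      exact hbad ((fh_one_of_triv D L hcon).mono ht)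
  have e2 : ∀ y ∈ S2, (Finset.univ.filter fun w : W => y • w = w).card ≤ c2 := by
    intro y hy
    obtain ⟨hyC, hyp⟩ := (Finset.mem_filter.1 hy).2
    rw [hfix]
    apply h2
    exact fixedPow H W F D p hp y hyp hyC
  have hS1 : S1.card ≤ Nat.card C := by
    have h3 : Nat.card C = (Finset.univ.filter fun y : H => y ∈ C).card := by
      rw [← Fintype.card_subtype, ← Nat.card_eq_fintype_card]
    rw [h3]
    refine Finset.card_le_card fun y hy => ?_
    exact Finset.mem_filter.2 ⟨Finset.mem_univ _, (Finset.mem_filter.1 hy).2.1⟩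
  have hS2 : S2.card ≤ Nat.card H := by
    rw [Nat.card_eq_fintype_card]
    exact Finset.card_le_univ _
  calc Nat.card {w : W // ¬ Gd (V := W) p t L w}
      = (Finset.univ.filter fun w : W => ¬ Gd (V := W) p t L w).card := by
        rw [Nat.card_eq_fintype_card, Fintype.card_subtype]
    _ ≤ _ := Finset.card_le_card hsub
    _ ≤ _ := Finset.card_union_le _ _
    _ ≤ S1.card * c1 + S2.card * c2 := add_le_add (Finset.card_biUnion_le_card_mul _ _ _ e1)
        (Finset.card_biUnion_le_card_mul _ _ _ e2)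
    _ ≤ _ := add_le_add (Nat.mul_le_mul_right _ hS1) (Nat.mul_le_mul_right _ hS2)

/-- `|C(A)| ≤ (f - 1) e ^ 8` -/
theorem card_cent_le {Q : Finset ℕ} {m : ℕ → ℕ} (hD : D.Num Q m) :
    Nat.card (Subgroup.centralizer (D.A : Set H)) ≤ (Nat.card F - 1) * (∏ q ∈ Q, q ^ m q) ^ 8 := by
  set C := Subgroup.centralizer (D.A : Set H) with hC
  have h0 : Nat.card C = Nat.card D.A * D.A.relIndex D.S * D.S.relIndex C := by
    rw [← Subgroup.relIndex_bot_left D.A, Subgroup.relIndex_mul_relIndex _ _ _ bot_le D.A_le,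
      Subgroup.relIndex_mul_relIndex _ _ _ bot_le D.S_le, Subgroup.relIndex_bot_left]
  rw [h0, hD.relIndex]
  calc _ ≤ (Nat.card F - 1) * (∏ q ∈ Q, q ^ m q) ^ 2 * (∏ q ∈ Q, q ^ m q) ^ 6 :=
        Nat.mul_le_mul (Nat.mul_le_mul_right _ (H120.RC.card_A_le D)) (H120.RC.relIndex_cent_le D hD)
    _ = _ := by ring

end Bad

end Cfsg.Agent.H675.RC
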