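import Cfsg.Agent.H527.RC.FHB
import Cfsg.Agent.H822.Cls.Plug
import Cfsg.Agent.H822.Cls.RelIx
import Cfsg.Agent.H668.Dim.NotMem

/-!
# S4191 : primitive linear groups with a normal `p`-complement (helper675)
-/

set_option autoImplicit false
set_option linter.unusedSectionVars false
set_option linter.style.haveILetI false

namespace Cfsg.Agent.H675.RC

open Cfsg.Agent.H527.RC Cfsg.Agent.H822.Cls Cfsg.Agent.H668.Dim
open scoped Pointwise commutatorElement

universe u

section Schur

variable {H W : Type u} [Group H] [AddCommGroup W] [Finite W] [Nontrivial W] [DistribMulAction H W]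

/-- elements centralizing an irreducible subgroup commute -/
theorem comm_of_cent (L : Subgroup H) (hf : ∀ h : H, (∀ w : W, h • w = w) → h = 1)
    (hirr : ∀ X : AddSubgroup W, (∀ g ∈ L, ∀ w ∈ X, g • w ∈ X) → X = ⊥ ∨ X = ⊤) {x y : H}
    (hx : ∀ l ∈ L, l * x = x * l) (hy : ∀ l ∈ L, l * y = y * l) : x * y = y * x := by
  classical
  let E : Subring (AddMonoid.End W) :=
    Subring.centralizer (Set.range fun l : L => DistribMulAction.toAddMonoidEnd H W (l : H))
  have hE : ∀ f : AddMonoid.End W, f ∈ E ↔ ∀ l ∈ L, ∀ w : W, l • f w = f (l • w) := by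
    intro f
    rw [Subring.mem_centralizer_iff]
    constructor
    · intro h l hl w
      exact DFunLike.congr_fun (h _ ⟨⟨l, hl⟩, rfl⟩) w
    · rintro h _ ⟨l, rfl⟩
      ext w
      exact h l l.2 w
  have hEf : Finite E := by
    have : Finite (AddMonoid.End W) := DFunLike.finite _
    infer_instance
  have hinj : ∀ f : E, f ≠ 0 → Function.Injective (f : AddMonoid.End W) := by
    intro f hf0
    have h1 := hirr (f : AddMonoid.End W).ker (by
      intro g hg w hw
      have hw' : (f : AddMonoid.End W) w = 0 := hw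
      show (f : AddMonoid.End W) (g • w) = 0
      rw [← (hE f).1 f.2 g hg w, hw', smul_zero])
    rcases h1 with h1 | h1
    · exact (AddMonoidHom.ker_eq_bot_iff _).1 h1
    · exfalso
      apply hf0
      apply Subtype.ext
      ext w
      have : w ∈ (f : AddMonoid.End W).ker := by rw [h1]; trivial
      exact this
  have hE1 : Nontrivial E := by
    refine ⟨0, 1, ?_⟩
    intro h
    obtain ⟨w, hw⟩ := exists_ne (0 : W)
    apply hw
    have h2 : (0 : AddMonoid.End W) = 1 := congrArg Subtype.val h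
    have := DFunLike.congr_fun h2 w
    exact this.symm
  have hdom : NoZeroDivisors E := by
    refine ⟨?_⟩
    intro a b hab
    by_cases ha : a = 0
    · exact Or.inl ha
    · right
      apply Subtype.ext
      ext w
      apply hinj a ha
      have h2 : (a : AddMonoid.End W) * (b : AddMonoid.End W) = 0 := congrArg Subtype.val hab
      have := DFunLike.congr_fun h2 w
      change (a : AddMonoid.End W) ((b : AddMonoid.End W) w) = 0 at this
      rw [this]
      exact (map_zero _).symm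
  have hdom' : IsDomain E := NoZeroDivisors.to_isDomain E
  have hfld := Finite.isDomain_to_isField E
  have hmem : ∀ z : H, (∀ l ∈ L, l * z = z * l) → DistribMulAction.toAddMonoidEnd H W z ∈ E := by
    intro z hz
    rw [hE]
    intro l hl w
    change l • z • w = z • l • w
    rw [smul_smul, smul_smul, hz l hl]
  have h3 := hfld.mul_comm ⟨_, hmem x hx⟩ ⟨_, hmem y hy⟩
  have h4 : DistribMulAction.toAddMonoidEnd H W x * DistribMulAction.toAddMonoidEnd H W y =
      DistribMulAction.toAddMonoidEnd H W y * DistribMulAction.toAddMonoidEnd H W x := congrArg Subtype.val h3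
  have h5 : ∀ w : W, (x * y) • w = (y * x) • w := by
    intro w
    have := DFunLike.congr_fun h4 w
    rw [mul_smul, mul_smul]
    exact this
  have h6 : (y * x)⁻¹ * (x * y) = 1 := hf _ fun w => by rw [mul_smul, h5, inv_smul_smul]
  exact (inv_mul_eq_one.1 h6).symm

end Schur

theorem pel_iff_isPGroup {G : Type*} [Group G] {p : ℕ} {y : G} (h : PEl p y) : IsPGroup p (Subgroup.zpowers y) := by
  obtain ⟨k, hk⟩ := h
  rintro ⟨x, i, rfl⟩
  refine ⟨k, Subtype.ext ?_⟩
  show (y ^ i) ^ p ^ k = 1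
  rw [← zpow_natCast, ← zpow_mul, mul_comm i, zpow_mul, zpow_natCast, hk, one_zpow]

section Prim

variable {H W F : Type u} [Group H] [Finite H] [AddCommGroup W] [Finite W] [Nontrivial W]
  [DistribMulAction H W] [Field F] [Finite F] [Module F W] (D : Prim H W F)

/-- the `p`-elements of `S` centralize the normal `p`-complement -/
theorem pel_comm {p : ℕ} (hp : p.Prime) {L : Subgroup H} (hL : LP p L) {t : H} (ht : t ∈ D.S) (hpt : PEl p t) :
    ∀ l ∈ L, l * t = t * l := by
  have hpf : Fact p.Prime := ⟨hp⟩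
  have hLn := hL.normal
  have hnil : Group.IsNilpotent D.S := D.isNilpotent_of_le D.S le_rfl
  obtain ⟨T⟩ : Nonempty (Sylow p D.S) := inferInstance
  have hTn0 : ∀ (p : ℕ) (_ : Fact p.Prime) (P : Sylow p D.S), (P : Subgroup D.S).Normal :=
    (Group.isNilpotent_of_finite_tfae.out 0 3).1 hnil
  have hTn : (T : Subgroup D.S).Normal := hTn0 p ⟨hp⟩ T
  have hTc : (T : Subgroup D.S).Characteristic := Sylow.characteristic_of_normal T hTn
  have hTH : ((T : Subgroup D.S).map D.S.subtype).Normal := by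
    have := D.S_normal
    exact ConjAct.normal_of_characteristic_of_normal
  have htT : t ∈ (T : Subgroup D.S).map D.S.subtype := by
    have h1 : PEl p (⟨t, ht⟩ : D.S) := by
      obtain ⟨k, hk⟩ := hpt
      exact ⟨k, Subtype.ext hk⟩
    obtain ⟨T', hT'⟩ := (pel_iff_isPGroup h1).exists_le_sylow
    have huniq := Sylow.unique_of_normal T hTn
    have h2 : T' = T := Subsingleton.elim _ _
    rw [h2] at hT'
    exact ⟨⟨t, ht⟩, hT' (Subgroup.mem_zpowers _), rfl⟩
  have hTp : IsPGroup p ((T : Subgroup D.S).map D.S.subtype) := T.isPGroup'.map _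
  have hdisj : Disjoint L ((T : Subgroup D.S).map D.S.subtype) := by
    rw [disjoint_iff, eq_bot_iff]
    intro x hx
    rw [Subgroup.mem_bot, ← orderOf_eq_one_iff]
    obtain ⟨k, hk⟩ := hTp ⟨x, hx.2⟩
    have hk' : x ^ p ^ k = 1 := congrArg Subtype.val hk
    refine Nat.eq_one_of_dvd_coprimes (a := Nat.card L) (b := p ^ k) ?_ (Subgroup.orderOf_dvd_natCard L hx.1)
      (orderOf_dvd_of_pow_eq_one hk')
    exact Nat.Coprime.pow_right _ ((Nat.Prime.coprime_iff_not_dvd hp).2 hL.cop).symm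
  intro l hl
  exact Subgroup.commute_of_normal_of_disjoint L _ hLn hTH hdisj l t hl htT

/-- `p` does not divide `|S / A|` -/
theorem mem_A_of_XL {p : ℕ} (hp : p.Prime) {L : Subgroup H} (hL : LP p L)
    (hf : ∀ h : H, (∀ w : W, h • w = w) → h = 1)
    (hirr : ∀ X : AddSubgroup W, (∀ g ∈ L, ∀ w ∈ X, g • w ∈ X) → X = ⊥ ∨ X = ⊤)
    {s : H} (hs : s ∈ XL D p) : s ∈ D.A := by
  have hpf : Fact p.Prime := ⟨hp⟩
  by_contra hsA
  obtain ⟨n, hn, k, hk⟩ := exists_pow_eq s hp
  have ht : s ^ n ∉ D.A := fun h => hsA (pow_mem_iff D hn hs.2 h)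
  have htS : s ^ n ∈ D.S := D.S.pow_mem hs.1 n
  have h1 : ∃ s' ∈ D.S, ⁅s ^ n, s'⁆ ≠ 1 := by
    by_contra hcon
    push Not at hcon
    apply ht
    apply D.cent_le
    rw [Subgroup.mem_centralizer_iff]
    intro y hy
    exact (commutatorElement_eq_one_iff_mul_comm.1 (hcon y hy)).symm
  obtain ⟨s', hs', hne⟩ := h1
  obtain ⟨n', hn', k', hk'⟩ := exists_pow_eq s' hp
  have h2 : ⁅s ^ n, s' ^ n'⁆ ≠ 1 := by
    intro h
    rw [cm_pow_right D htS hs'] at h
    have h3 : ⁅s ^ n, s'⁆ ^ p ^ k = 1 := by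
      rw [← cm_pow_left D htS hs', hk, commutatorElement_one_left]
    apply hne
    rw [← orderOf_eq_one_iff]
    exact Nat.eq_one_of_dvd_coprimes (Nat.Coprime.pow_left k hn') (orderOf_dvd_of_pow_eq_one h3)
      (orderOf_dvd_of_pow_eq_one h)
  apply h2
  rw [commutatorElement_eq_one_iff_mul_comm]
  exact comm_of_cent L hf hirr (pel_comm D hp hL htS ⟨k, hk⟩)
    (pel_comm D hp hL (D.S.pow_mem hs' n') ⟨k', hk'⟩)

theorem not_mem_Q {p : ℕ} (hp : p.Prime) {L : Subgroup H} (hL : LP p L)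
    (hf : ∀ h : H, (∀ w : W, h • w = w) → h = 1)
    (hirr : ∀ X : AddSubgroup W, (∀ g ∈ L, ∀ w ∈ X, g • w ∈ X) → X = ⊥ ∨ X = ⊤)
    {Q : Finset ℕ} {m : ℕ → ℕ} (hD : D.Num Q m) : p ∉ Q := by
  intro hpQ
  have h1 := card_XQ D hD hpQ
  have h2 : ∀ x : XQ D p, x = 1 := by
    intro x
    obtain ⟨s, hs, rfl⟩ := exists_cl D x
    rw [cl_eq_one_iff]
    exact mem_A_of_XL D hp hL hf hirr hs
  have h3 : Nat.card (XQ D p) = 1 := by
    rw [Nat.card_eq_one_iff_unique]
    exact ⟨⟨fun a b => by rw [h2 a, h2 b]⟩, ⟨1⟩⟩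
  rw [h1] at h3
  have h4 := hD.one_le p hpQ
  have h5 : 1 < p ^ (2 * m p) := Nat.one_lt_pow (by omega) hp.one_lt
  omega

theorem comm_le_L {G : Type u} [Group G] {p : ℕ} {L : Subgroup G} (hL : LP p L) (B : Subgroup G) : ⁅L, B⁆ ≤ L := by
  have := hL.normal
  exact Subgroup.commutator_le_left L B

/-- the kernel of the action on `S / A` -/
def TS : Subgroup H where
  carrier := {x | ∀ s ∈ D.S, x * s * x⁻¹ * s⁻¹ ∈ D.A}
  one_mem' := by
    intro s _
    simp
  mul_mem' := by
    intro a b ha hb s hs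
    have h1 := ha _ (D.S_normal.conj_mem s hs b)
    have h2 := hb s hs
    have h3 : a * b * s * (a * b)⁻¹ * s⁻¹ = a * (b * s * b⁻¹) * a⁻¹ * (b * s * b⁻¹)⁻¹ * (b * s * b⁻¹ * s⁻¹) := by
      group
    rw [h3]
    exact D.A.mul_mem h1 h2
  inv_mem' := by
    intro a ha s hs
    have h1 := ha _ (D.S_normal.conj_mem s hs a⁻¹)
    have h3 : a⁻¹ * s * a⁻¹⁻¹ * s⁻¹ = (a * (a⁻¹ * s * a⁻¹⁻¹) * a⁻¹ * (a⁻¹ * s * a⁻¹⁻¹)⁻¹)⁻¹ := by group
    rw [h3]
    exact D.A.inv_mem h1

theorem TS_normal : (TS D).Normal := by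
  refine ⟨fun x hx g s hs => ?_⟩
  have h1 := hx _ (D.S_normal.conj_mem s hs g⁻¹)
  have h3 : g * x * g⁻¹ * s * (g * x * g⁻¹)⁻¹ * s⁻¹ =
      g * (x * (g⁻¹ * s * g⁻¹⁻¹) * x⁻¹ * (g⁻¹ * s * g⁻¹⁻¹)⁻¹) * g⁻¹ := by group
  rw [h3]
  exact D.A_normal.conj_mem _ h1 g

/-- an element acting trivially on `S / A` is harmless -/
theorem comm_le_S_of_triv (L : Subgroup H) {y : H}
    (h : ∀ s ∈ D.S, y * s * y⁻¹ * s⁻¹ ∈ D.A) : ⁅L, Subgroup.zpowers y⁆ ≤ D.S := by
  have hn := TS_normal D
  have hy : y ∈ TS D := h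
  have h1 : ⁅L, Subgroup.zpowers y⁆ ≤ TS D :=
    (Subgroup.commutator_mono le_rfl ((Subgroup.zpowers_le).2 hy)).trans (Subgroup.commutator_le_right L (TS D))
  intro x hx
  exact D.dual x (D.commutator_le _ _ hx) (h1 hx)

theorem fh_one_of_triv (L : Subgroup H) {y : H}
    (h : ∀ s ∈ D.S, y * s * y⁻¹ * s⁻¹ ∈ D.A) : FH 1 (⁅L, Subgroup.zpowers y⁆ : Subgroup H) :=
  FH.one_iff.2 (D.isNilpotent_of_le _ (comm_le_S_of_triv D L h))

/-- some `X_q` on which the image of `L ∩ C(A)` does not have small Fitting height -/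
theorem exists_q {t : ℕ} (L : Subgroup H) {Q : Finset ℕ} {m : ℕ → ℕ} (hD : D.Num Q m)
    (h : ¬ FH (t + 1) (L ⊓ Subgroup.centralizer (D.A : Set H) : Subgroup H)) :
    ∃ q ∈ Q, ¬ FH t ((L ⊓ Subgroup.centralizer (D.A : Set H)).map (rho D q).rangeRestrict) := by
  classical
  by_contra hcon
  push Not at hcon
  apply h
  set LA : Subgroup H := L ⊓ Subgroup.centralizer (D.A : Set H) with hLA
  let f : LA →* (∀ q : Q, LA.map (rho D (q : ℕ)).rangeRestrict) :=
    { toFun := fun x q => ⟨(rho D (q : ℕ)).rangeRestrict (x : H), x, x.2, rfl⟩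
      map_one' := by
        funext q
        apply Subtype.ext
        show (rho D (q : ℕ)).rangeRestrict ((1 : LA) : H) = 1
        rw [Subgroup.coe_one, map_one]
      map_mul' := by
        intro x y
        funext q
        apply Subtype.ext
        show (rho D (q : ℕ)).rangeRestrict ((x * y : LA) : H) =
          (rho D (q : ℕ)).rangeRestrict (x : H) * (rho D (q : ℕ)).rangeRestrict (y : H)
        rw [Subgroup.coe_mul, map_mul] }
  have hk : ∀ x : f.ker, (x : LA).1 ∈ D.S := by
    intro x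
    refine mem_of_triv D hD (x : LA).2.2 ?_
    intro q hq
    rw [← rho_eq_one_iff]
    exact congrArg Subtype.val (congrArg Subtype.val (congrFun (MonoidHom.mem_ker.1 x.2) ⟨q, hq⟩))
  have hnil : Group.IsNilpotent f.ker := by
    have h1 : Group.IsNilpotent D.S := D.isNilpotent_of_le D.S le_rfl
    let g : f.ker →* D.S :=
      { toFun := fun x => ⟨(x : LA).1, hk x⟩
        map_one' := rfl
        map_mul' := fun _ _ => rfl }
    exact isNilpotent_of_injective g
      (fun a b hab => Subtype.ext (Subtype.ext (congrArg (fun z : D.S => (z : H)) hab))) h1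
  refine ⟨f.ker, inferInstance, hnil, ?_⟩
  refine FH.of_injective (QuotientGroup.kerLift f) (QuotientGroup.kerLift_injective f) ?_
  exact FH.of_family (ι := Q) (Hs := fun q => LA.map (rho D (q : ℕ)).rangeRestrict)
    (fun q => Pi.evalMonoidHom _ q) (fun g hg => funext hg) (fun q => hcon q q.2)

theorem LA_normal {L : Subgroup H} (hLn : L.Normal) :
    (L ⊓ Subgroup.centralizer (D.A : Set H) : Subgroup H).Normal := by
  have hn : (Subgroup.centralizer (D.A : Set H)).Normal := by rw [← D.σ_ker]; infer_instance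
  infer_instance

/-- no normal `q`-subgroups in the image on `X_q` -/
theorem no_q {q : ℕ} (hq : q.Prime) {LA : Subgroup H} (hn : LA.Normal)
    (N : Subgroup (LA.map (rho D q).rangeRestrict))
    (hN : N.Normal) (hNq : IsPGroup q N) : N = ⊥ := by
  classical
  have hqf : Fact q.Prime := ⟨hq⟩
  have hEn : (LA.map (rho D q).rangeRestrict).Normal := hn.map _ (rho D q).rangeRestrict_surjective
  have hRq : IsPGroup q (LA.map (rho D q).rangeRestrict ⊓ Cfsg.pCore q (rho D q).range :
      Subgroup (rho D q).range) :=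
    (Lib.Cores.pCore_isPGroup (G := (rho D q).range) q).to_le inf_le_right
  have hNR : N.map (LA.map (rho D q).rangeRestrict).subtype ≤
      LA.map (rho D q).rangeRestrict ⊓ Cfsg.pCore q (rho D q).range := by
    rw [← Lib.Cores.map_subtype_pCore q hEn]
    exact Subgroup.map_mono (Lib.Cores.le_pCore hN hNq)
  have hRn : (LA.map (rho D q).rangeRestrict ⊓ Cfsg.pCore q (rho D q).range :
      Subgroup (rho D q).range).Normal := inferInstance
  have hss := D.ss q hq (LA ⊓ (LA.map (rho D q).rangeRestrict ⊓ Cfsg.pCore q (rho D q).range).comap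
      (rho D q).rangeRestrict) inferInstance (by
    intro x hx
    obtain ⟨k, hk⟩ := hRq ⟨(rho D q).rangeRestrict x, hx.2⟩
    refine ⟨k, (rho_eq_one_iff D (x ^ q ^ k)).1 ?_⟩
    rw [map_pow]
    have h1 : (rho D q).rangeRestrict x ^ q ^ k = 1 := congrArg Subtype.val hk
    exact congrArg Subtype.val h1)
  rw [eq_bot_iff]
  intro y hy
  have h2 := hNR ⟨y, hy, rfl⟩
  obtain ⟨x, hx, hxy⟩ := y.2
  have h3 : x ∈ LA ⊓ (LA.map (rho D q).rangeRestrict ⊓ Cfsg.pCore q (rho D q).range).comap
      (rho D q).rangeRestrict := by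
    refine Subgroup.mem_inf.2 ⟨hx, ?_⟩
    rw [Subgroup.mem_comap, hxy]
    exact h2
  have h4 : rho D q x = 1 := (rho_eq_one_iff D x).2 (hss x h3)
  rw [Subgroup.mem_bot]
  apply Subtype.ext
  rw [← hxy]
  exact Subtype.ext h4

/-- if `[L, y]` is complicated, so is `L ∩ C(A)` -/
theorem not_fh_LA {t p : ℕ} {L : Subgroup H} (hL : LP p L) {y : H}
    (h : ¬ FH t (⁅L, Subgroup.zpowers y⁆ : Subgroup H)) :
    ¬ FH t (L ⊓ Subgroup.centralizer (D.A : Set H) : Subgroup H) :=
  fun h' => h (h'.of_le (le_inf (comm_le_L hL _) (D.commutator_le _ _)))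

/-- `C(A)` is nilpotent-by-abelian over ... : if `L ∩ C(A)` is in `S` then `FH 2 L` -/
theorem fh_two_of_le {L : Subgroup H} (h : L ⊓ Subgroup.centralizer (D.A : Set H) ≤ D.S) : FH 2 L := by
  have hn : (Subgroup.centralizer (D.A : Set H)).Normal := by rw [← D.σ_ker]; infer_instance
  let f : L →* (F ≃+* F) := D.σ.comp L.subtype
  have hnil : Group.IsNilpotent f.ker := by
    have h1 : Group.IsNilpotent D.S := D.isNilpotent_of_le D.S le_rfl
    have hk : ∀ x : f.ker, (x : L).1 ∈ D.S := by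
      intro x
      apply h
      refine ⟨(x : L).2, ?_⟩
      have h2 : (x : L).1 ∈ D.σ.ker := MonoidHom.mem_ker.1 x.2
      rw [D.σ_ker] at h2
      exact h2
    let g : f.ker →* D.S :=
      { toFun := fun x => ⟨(x : L).1, hk x⟩
        map_one' := rfl
        map_mul' := fun _ _ => rfl }
    exact isNilpotent_of_injective g (fun a b hab => Subtype.ext (Subtype.ext (congrArg (fun z : D.S => (z : H)) hab))) h1
  refine ⟨f.ker, inferInstance, hnil, ?_⟩
  rw [FH.one_iff]
  have hc : ∀ a b : L ⧸ f.ker, a * b = b * a := by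
    intro a b
    apply QuotientGroup.kerLift_injective f
    rw [map_mul, map_mul]
    exact ringEquiv_comm _ _
  let _ : CommGroup (L ⧸ f.ker) := { (inferInstance : Group (L ⧸ f.ker)) with mul_comm := hc }
  infer_instance

end Prim

end Cfsg.Agent.H675.RC
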